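import Cfsg.Agent.FGS.CY.Dih

/-!
# A set of involutions in a 2-group with few commuting pairs is fixed pointwise
-/

set_option autoImplicit false

namespace CL.FN

open CL.CY.Dih

universe u

theorem all_fix (n : ℕ) : ∀ {P : Type u} [Group P] [Finite P], Nat.card P = n → IsPGroup 2 P →
    ∀ (φ : P →* P) {m : ℕ}, Odd m → (∀ x, φ^[m] x = x) → ∀ {D : Set P},
    (∀ d ∈ D, d * d = 1 ∧ d ≠ 1) → (∀ d ∈ D, ∀ g, g * d * g⁻¹ ∈ D) → (∀ d ∈ D, φ d ∈ D) →
    (∀ d ∈ D, ∀ e ∈ D, ∀ e' ∈ D, d * e = e * d → d * e' = e' * d → e = d ∨ e' = d ∨ e = e') →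
    (∀ d ∈ D, ∀ e ∈ D, d * e = e * d → ∀ u, u * d = d * u → d * e = u * u → e = d) →
    ∀ d ∈ D, φ d = d := by
  induction n using Nat.strong_induction_on with
  | _ n ih =>
  intro P _ _ hn hP φ m hm hφ D two cj inv one nsq
  have inj : Function.Injective φ := by
    obtain ⟨k, rfl⟩ := hm
    intro x y e
    rw [← hφ x, ← hφ y, Function.iterate_add_apply, Function.iterate_add_apply]
    exact congrArg _ e
  by_cases hab : ∀ d ∈ D, ∀ e ∈ D, d * e = e * d
  · intro d hd
    rcases one d hd _ (inv d hd) _ (inv _ (inv d hd)) (hab _ hd _ (inv d hd))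
      (hab _ hd _ (inv _ (inv d hd))) with e | e | e
    · exact e
    · exact odd_fix φ hm (hφ d) e
    · exact (inj e).symm
  push Not at hab
  obtain ⟨d₁, h₁, d₂, h₂, n12⟩ := hab
  obtain ⟨k₀, p₁, -⟩ := pair hP two cj h₁ h₂ n12
  generalize (d₁ * d₂) ^ k₀ * (d₁ * d₂) ^ k₀ = c at p₁
  have c2 : c * c = 1 := by
    have := (two _ p₁.2.2).1
    calc c * c = c * c * (d₁ * d₁) := by rw [(two _ h₁).1, mul_one]
      _ = c * (c * d₁) * d₁ := by group
      _ = c * (d₁ * c) * d₁ := by rw [p₁.2.1]
      _ = c * d₁ * (c * d₁) := by group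
      _ = 1 := this
  have two' : ∀ d ∈ D, ∀ e ∈ D, Pt D c d → d * e = e * d → e = d ∨ e = c * d := by
    intro d hd e he p h
    rcases one d hd e he _ p.2.2 h (by rw [← mul_assoc, ← p.2.1]) with x | x | x
    · exact Or.inl x
    · exact absurd (mul_eq_right.1 x) p.1
    · exact Or.inr x
  have all : ∀ d ∈ D, Pt D c d := by
    intro d hd
    by_cases h : d₁ * d = d * d₁
    · rcases two' d₁ h₁ d hd p₁ h with rfl | rfl
      · exact p₁
      · refine ⟨p₁.1, ?_, ?_⟩
        · rw [mul_assoc, ← p₁.2.1]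
        · rw [← mul_assoc, c2, one_mul]; exact h₁
    · obtain ⟨k, q₁, q₂⟩ := pair hP two cj h₁ hd h
      rw [Pt.uniq one h₁ p₁ q₁]
      exact q₂
  have φc : φ c = c := by
    refine Pt.uniq one (inv _ h₁) ⟨fun h => p₁.1 (inj (h.trans (map_one φ).symm)), ?_, ?_⟩ (all _ (inv _ h₁))
    · rw [← map_mul, ← map_mul, p₁.2.1]
    · rw [← map_mul]; exact inv _ p₁.2.2
  have cc : ∀ g, g * c = c * g := by
    intro g
    have : g * c * g⁻¹ = c := by
      refine Pt.uniq one (cj _ h₁ g) ⟨fun h => p₁.1 (by simpa using h), ?_, ?_⟩ (all _ (cj _ h₁ g))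
      · calc g * c * g⁻¹ * (g * d₁ * g⁻¹) = g * (c * d₁) * g⁻¹ := by group
          _ = g * (d₁ * c) * g⁻¹ := by rw [p₁.2.1]
          _ = _ := by group
      · have := cj _ p₁.2.2 g
        rwa [show g * (c * d₁) * g⁻¹ = g * c * g⁻¹ * (g * d₁ * g⁻¹) by group] at this
    calc g * c = g * c * g⁻¹ * g := by group
      _ = c * g := by rw [this]
  let N : Subgroup P :=
    { carrier := {x | x = 1 ∨ x = c}
      one_mem' := Or.inl rfl
      mul_mem' := by
        rintro x y (rfl | rfl) (rfl | hy)
        · exact Or.inl (mul_one _)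
        · exact Or.inr (by rw [one_mul, hy])
        · exact Or.inr (mul_one _)
        · exact Or.inl (by rw [hy, c2])
      inv_mem' := by
        rintro x (rfl | rfl)
        · exact Or.inl inv_one
        · exact Or.inr (inv_eq_of_mul_eq_one_right c2) }
  have mN : ∀ x, x ∈ N ↔ x = 1 ∨ x = c := fun _ => Iff.rfl
  have : N.Normal := ⟨fun x hx g => by
    rcases (mN x).1 hx with rfl | rfl
    · simp
    · rw [cc g, mul_inv_cancel_right]; exact hx⟩
  let π : P →* P ⧸ N := QuotientGroup.mk' N
  have πs : Function.Surjective π := QuotientGroup.mk'_surjective N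
  have eqv : ∀ x y, π x = π y ↔ y = x ∨ y = c * x := by
    intro x y
    rw [QuotientGroup.mk'_apply, QuotientGroup.mk'_apply, QuotientGroup.eq, mN, inv_mul_eq_one,
      inv_mul_eq_iff_eq_mul, cc x, eq_comm]
  have hφN : N ≤ N.comap φ := by
    intro x hx
    rcases (mN x).1 hx with rfl | rfl
    · exact (mN _).2 (Or.inl (map_one φ))
    · exact (mN _).2 (Or.inr φc)
  let ψ : P ⧸ N →* P ⧸ N := QuotientGroup.map N N φ hφN
  have ψπ : ∀ x, ψ (π x) = π (φ x) := fun x => rfl
  have cm : ∀ d ∈ D, ∀ e ∈ D, d * e = e * d → π e = π d := fun d hd e he h =>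
    ((eqv d e).2 (two' d hd e he (all d hd) h)).symm
  -- an element commuting with `d` modulo `N`
  have sq : ∀ d u v : P, u * d = c * (d * u) → v * d = c * (d * v) → u * v * d = d * (u * v) := by
    intro d u v hu hv
    calc u * v * d = u * (v * d) := by group
      _ = (u * c) * (d * v) := by rw [hv, mul_assoc]
      _ = c * (u * d) * v := by rw [cc u]; group
      _ = (c * c) * (d * (u * v)) := by rw [hu]; group
      _ = _ := by rw [c2, one_mul]
  have lt : Nat.card (P ⧸ N) < n := by
    rw [← hn, Subgroup.card_eq_card_quotient_mul_card_subgroup N]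
    have : 1 < Nat.card N := (Subgroup.one_lt_card_iff_ne_bot N).2 (fun h => p₁.1 (by
      have : c ∈ N := (mN c).2 (Or.inr rfl)
      rwa [h, Subgroup.mem_bot] at this))
    exact lt_mul_of_one_lt_right Nat.card_pos this
  have hall := ih _ lt (P := P ⧸ N) rfl (hP.to_quotient N) ψ hm (by
      intro x
      obtain ⟨x, rfl⟩ := πs x
      have : ∀ j : ℕ, ψ^[j] (π x) = π (φ^[j] x) := by
        intro j
        induction j with
        | zero => rfl
        | succ j ihj => rw [Function.iterate_succ_apply', Function.iterate_succ_apply', ihj, ψπ]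
      rw [this, hφ]) (D := π '' D)
    (by
      rintro _ ⟨d, hd, rfl⟩
      refine ⟨by rw [← map_mul, (two d hd).1, map_one], fun h => ?_⟩
      rcases (eqv 1 d).1 (by rw [h, map_one]) with e | e
      · exact (two d hd).2 e
      · have := (all d hd).2.2
        rw [e, mul_one, c2] at this
        exact (two _ this).2 rfl)
    (by
      rintro _ ⟨d, hd, rfl⟩ g
      obtain ⟨g, rfl⟩ := πs g
      exact ⟨_, cj d hd g, by rw [map_mul, map_mul, map_inv]⟩)
    (by
      rintro _ ⟨d, hd, rfl⟩
      exact ⟨_, inv d hd, (ψπ d).symm⟩)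
    (by
      rintro _ ⟨d, hd, rfl⟩ _ ⟨e, he, rfl⟩ _ ⟨e', he', rfl⟩ a b
      by_contra hc
      push Not at hc
      obtain ⟨x, y, z⟩ := hc
      rw [← map_mul, ← map_mul, eqv] at a b
      have a' := a.resolve_left (fun h => x (cm d hd e he h.symm))
      have b' := b.resolve_left (fun h => y (cm d hd e' he' h.symm))
      have com : Commute (e * e') d := sq d e e' a' b'
      obtain ⟨k, q, -⟩ := pair hP two cj he he' (fun h => z (cm e he e' he' h).symm)
      have ec := Pt.uniq one he q (all e he)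
      have pd := all d hd
      have := nsq d hd _ pd.2.2 (by rw [← mul_assoc, ← pd.2.1]) ((e * e') ^ k) (com.pow_left k)
        (by rw [ec, pd.2.1, ← mul_assoc, (two d hd).1, one_mul])
      exact pd.1 (mul_eq_right.1 this))
    (by
      rintro _ ⟨d, hd, rfl⟩ _ ⟨e, he, rfl⟩ - u a b
      obtain ⟨u, rfl⟩ := πs u
      rw [← map_mul, ← map_mul, eq_comm, eqv] at a b
      have com : Commute (u * u) d := by
        rcases a with a | a
        · exact Commute.mul_left a a
        · exact sq d u u a a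
      have com2 : Commute (d * e) d := by
        rcases b with b | b
        · rw [b]; exact com
        · rw [b]; exact Commute.mul_left (cc d).symm com
      refine cm d hd e he (mul_left_cancel (a := d) ?_)
      rw [← com2.eq, mul_assoc])
  intro d hd
  have hf := hall _ ⟨d, hd, rfl⟩
  rw [ψπ, eq_comm, eqv] at hf
  rcases hf with e | e
  · exact e
  · refine odd_fix φ hm (hφ d) ?_
    rw [e, map_mul, φc, e, ← mul_assoc, c2, one_mul]

end CL.FN
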